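import Groth.Agent.H25.SepNode.Local
import Mathlib.RingTheory.Localization.AtPrime.Basic
import Mathlib.RingTheory.Localization.Ideal
import Mathlib.RingTheory.Noetherian.Basic

/-!
Two ideals meeting in a single node sum to its maximal ideal.
-/

set_option autoImplicit false
universe u

namespace Groth.Agent.H25.SepNode.Ideals

open IsLocalRing

variable {A R : Type u} [CommRing A] [CommRing R] [Algebra A R]

/-- An ideal with vanishing localisation at `p` is killed by an element outside `p`. -/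
theorem exists_killed_of_map_eq_bot [IsNoetherianRing A] (p : Ideal A) [p.IsPrime]
    [IsLocalization.AtPrime R p] {I : Ideal A} (h : I.map (algebraMap A R) = ⊥) :
    ∃ s ∉ p, ∀ f ∈ I, s * f = 0 := by
  classical
  obtain ⟨S, hS⟩ := IsNoetherian.noetherian I
  have hx : ∀ x : S, ∃ s : p.primeCompl, (s : A) * x = 0 := fun x => by
    refine (IsLocalization.map_eq_zero_iff p.primeCompl R (x : A)).1 ?_
    rw [← Ideal.mem_bot, ← h]
    exact Ideal.mem_map_of_mem _ (hS ▸ Submodule.subset_span x.2)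
  choose s hs using hx
  refine ⟨((∏ x : S, s x : p.primeCompl) : A), (∏ x : S, s x : p.primeCompl).2, fun f hf => ?_⟩
  rw [← hS] at hf
  refine Submodule.span_induction (p := fun f _ => ((∏ x : S, s x : p.primeCompl) : A) * f = 0)
    (fun x hxS => ?_) (mul_zero _) (fun _ _ _ _ ha hb => by rw [mul_add, ha, hb, add_zero])
    (fun r x _ hr => by rw [smul_eq_mul, mul_left_comm, hr, mul_zero]) hf
  rw [Submonoid.coe_finset_prod, ← Finset.prod_erase_mul _ _ (Finset.mem_univ (⟨x, hxS⟩ : S)),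
    mul_assoc, hs ⟨x, hxS⟩, mul_zero]

/-- **Separated branches**: radical ideals with zero intersection, whose common zero set is at most a
point with `δ = 1` and which are both nonzero at that point, sum to the ideal of the point. -/
theorem le_sup_of_node [IsNoetherianRing A] [IsLocalRing R] (p : Ideal A) [p.IsMaximal]
    [IsLocalization.AtPrime R p] (hδ : Curv2.deltaInv R = 1)
    (hnzd : ∃ r ∈ maximalIdeal R, r ∈ nonZeroDivisors R) {I J : Ideal A} (hI : I.IsRadical)
    (hJ : J.IsRadical) (hinf : I ⊓ J = ⊥)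
    (hm : ∀ q : Ideal A, q.IsPrime → I ≤ q → J ≤ q → q = p)
    (hI0 : ∀ s ∉ p, ∃ f ∈ I, s * f ≠ 0) (hJ0 : ∀ s ∉ p, ∃ f ∈ J, s * f ≠ 0) :
    p ≤ I ⊔ J := by
  have hne : ∀ {K : Ideal A}, (∀ s ∉ p, ∃ f ∈ K, s * f ≠ 0) → K.map (algebraMap A R) ≠ ⊥ :=
    fun {K} hK h => by
      obtain ⟨s, hs, hsK⟩ := exists_killed_of_map_eq_bot p h
      obtain ⟨f, hf, hne⟩ := hK s hs
      exact hne (hsK f hf)
  have hinfR : I.map (algebraMap A R) ⊓ J.map (algebraMap A R) = ⊥ := by
    rw [eq_bot_iff]
    rintro x ⟨hxI, hxJ⟩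
    obtain ⟨⟨⟨a, ha⟩, s⟩, hsa⟩ := (IsLocalization.mem_map_algebraMap_iff p.primeCompl R).1 hxI
    obtain ⟨⟨⟨b, hb⟩, t⟩, htb⟩ := (IsLocalization.mem_map_algebraMap_iff p.primeCompl R).1 hxJ
    simp only at hsa htb
    have hab : algebraMap A R (a * t) = algebraMap A R (b * s) := by
      rw [map_mul, map_mul, ← hsa, ← htb]; ring
    obtain ⟨c, hc⟩ := (IsLocalization.eq_iff_exists p.primeCompl R).1 hab
    have h0 : (c : A) * (a * t) = 0 := by
      rw [← Ideal.mem_bot, ← hinf]
      exact ⟨I.mul_mem_left _ (I.mul_mem_right _ ha), hc ▸ J.mul_mem_left _ (J.mul_mem_right _ hb)⟩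
    have hu : IsUnit (algebraMap A R ((s : A) * ((t : A) * (c : A)))) :=
      IsLocalization.map_units R (s * (t * c))
    rw [Ideal.mem_bot, ← hu.mul_left_eq_zero, map_mul, map_mul, ← mul_assoc, hsa]
    rw [← map_mul, ← map_mul, ← map_zero (algebraMap A R), ← h0]
    exact congrArg _ (by ring)
  have hmR : ∀ q : Ideal R, q.IsPrime → I.map (algebraMap A R) ≤ q →
      J.map (algebraMap A R) ≤ q → q = maximalIdeal R := by
    intro q hq hIq hJq
    have := hm (q.comap (algebraMap A R)) (Ideal.IsPrime.comap _) (Ideal.map_le_iff_le_comap.1 hIq)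
      (Ideal.map_le_iff_le_comap.1 hJq)
    rw [← IsLocalization.map_under p.primeCompl R q, Ideal.under_def, this,
      IsLocalization.AtPrime.map_eq_maximalIdeal p R]
  obtain ⟨r, hr, hr0⟩ := hnzd
  have key := Local.maximalIdeal_le_radical_sup' hδ hinfR (hne hI0) (hne hJ0) hmR hr hr0
  rw [← IsLocalization.map_radical p.primeCompl R I, ← IsLocalization.map_radical p.primeCompl R J,
    hI.radical, hJ.radical, ← Ideal.map_sup] at key
  intro f hf
  have hfm : algebraMap A R f ∈ maximalIdeal R := by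
    rw [← IsLocalization.AtPrime.map_eq_maximalIdeal p R]; exact Ideal.mem_map_of_mem _ hf
  obtain ⟨s, hs⟩ :=
    (IsLocalization.algebraMap_mem_map_algebraMap_iff p.primeCompl R (I ⊔ J) f).1 (key hfm)
  obtain ⟨hsp, hsf⟩ := hs
  by_contra hne'
  have htop : (I ⊔ J) ⊔ Ideal.span {s} = ⊤ := by
    by_contra h
    obtain ⟨q, hq, hle⟩ := Ideal.exists_le_maximal _ h
    have := hm q hq.isPrime (le_sup_left.trans (le_sup_left.trans hle))
      (le_sup_right.trans (le_sup_left.trans hle))
    exact hsp (this ▸ hle (Ideal.mem_sup_right (Ideal.mem_span_singleton_self s)))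
  obtain ⟨x, hx, y, hy, hxy⟩ := Submodule.mem_sup.1 ((Ideal.eq_top_iff_one _).1 htop)
  obtain ⟨d, rfl⟩ := Ideal.mem_span_singleton'.1 hy
  refine hne' ?_
  rw [← one_mul f, ← hxy, add_mul, mul_assoc]
  exact add_mem (Ideal.mul_mem_right _ _ hx) (Ideal.mul_mem_left _ _ hsf)

end Groth.Agent.H25.SepNode.Ideals
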