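import Groth.Prelude.Def_Curv2
import Mathlib.RingTheory.Length
import Mathlib.RingTheory.Ideal.KrullsHeightTheorem

/-!
Two ideals cutting a local ring with `δ = 1` into two pieces sum to the maximal ideal.
-/

set_option autoImplicit false
universe u

namespace Groth.Agent.H25.SepNode.Local

open IsLocalRing

variable {A : Type u} [CommRing A] [IsLocalRing A]

/-- With `δ = 1`, a multiple by an element of the maximal ideal of an integral element of the
fraction ring lies in `A`. -/
theorem exists_eq_algebraMap_of_deltaInv (hδ : Curv2.deltaInv A = 1) {e : FractionRing A}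
    (he : IsIntegral A e) {f : A} (hf : f ∈ maximalIdeal A) :
    ∃ a : A, algebraMap A (FractionRing A) a = algebraMap A (FractionRing A) f * e := by
  let N := integralClosure A (FractionRing A)
  let S : Submodule A N := LinearMap.range (Algebra.linearMap A N)
  haveI : IsSimpleModule A (N ⧸ S) := Module.length_eq_one_iff.1 hδ
  have hann : Module.annihilator A (N ⧸ S) = maximalIdeal A :=
    IsLocalRing.eq_maximalIdeal IsSimpleModule.annihilator_isMaximal
  have h : f • (Submodule.Quotient.mk (p := S) (⟨e, he⟩ : N)) = 0 :=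
    Module.mem_annihilator.1 (hann ▸ hf) _
  rw [← Submodule.Quotient.mk_smul, Submodule.Quotient.mk_eq_zero] at h
  obtain ⟨a, ha⟩ := h
  refine ⟨a, ?_⟩
  have := congrArg Subtype.val ha
  rw [Algebra.linearMap_apply] at this
  simpa [Algebra.smul_def] using this

/-- An element killed by `J` lies in the radical of `I` when `I + J` has the zero set `{m}`. -/
theorem mem_radical_of_killed {I J : Ideal A} (hJ : J ≠ ⊥)
    (hm : ∀ q : Ideal A, q.IsPrime → I ≤ q → J ≤ q → q = maximalIdeal A) {a : A}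
    (ha : ∀ y ∈ J, a * y = 0) : a ∈ I.radical := by
  rw [Ideal.radical_eq_sInf, Ideal.mem_sInf]
  rintro q ⟨hIq, hq⟩
  by_cases hJq : J ≤ q
  · rw [hm q hq hIq hJq, mem_maximalIdeal, mem_nonunits_iff]
    intro hu
    exact hJ (eq_bot_iff.2 fun y hy => hu.mul_right_eq_zero.1 (ha y hy))
  · obtain ⟨y, hy, hyq⟩ := SetLike.not_le_iff_exists.1 hJq
    exact (hq.mem_or_mem (show a * y ∈ q from ha y hy ▸ q.zero_mem)).resolve_right hyq

/-- Two nonzero ideals with intersection zero whose sum contains a regular element and has zero set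
the closed point sum to the maximal ideal, up to radicals, if `δ = 1`. -/
theorem maximalIdeal_le_radical_sup (hδ : Curv2.deltaInv A = 1) {I J : Ideal A}
    (hIJ : I ⊓ J = ⊥) (hI : I ≠ ⊥) (hJ : J ≠ ⊥)
    (hm : ∀ q : Ideal A, q.IsPrime → I ≤ q → J ≤ q → q = maximalIdeal A)
    {r : A} (hr : r ∈ I ⊔ J) (hr0 : r ∈ nonZeroDivisors A) :
    maximalIdeal A ≤ I.radical ⊔ J.radical := by
  obtain ⟨i, hi, j, hj, rfl⟩ := Submodule.mem_sup.1 hr
  intro f hf
  have hij : i * j = 0 := by
    have : i * j ∈ I ⊓ J := ⟨I.mul_mem_right j hi, J.mul_mem_left i hj⟩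
    rwa [hIJ, Ideal.mem_bot] at this
  set φ := algebraMap A (FractionRing A)
  obtain ⟨v, hv⟩ := IsLocalization.map_units (FractionRing A) (⟨i + j, hr0⟩ : nonZeroDivisors A)
  change (v : FractionRing A) = φ (i + j) at hv
  set e : FractionRing A := φ i * ↑v⁻¹
  have he2 : e * e = e := by
    have h1 : φ i * φ i = φ i * ↑v := by
      rw [hv, ← map_mul, ← map_mul, mul_add, hij, add_zero]
    calc e * e = (φ i * φ i) * ↑v⁻¹ * ↑v⁻¹ := by ring
      _ = φ i * (↑v * ↑v⁻¹) * ↑v⁻¹ := by rw [h1]; ring
      _ = e := by rw [Units.mul_inv, mul_one]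
  have he : IsIntegral A e :=
    ⟨Polynomial.X ^ 2 - Polynomial.X, Polynomial.monic_X_pow_sub (by
      rw [Polynomial.degree_X]; decide), by simp [pow_two, he2]⟩
  obtain ⟨a, ha⟩ := exists_eq_algebraMap_of_deltaInv hδ he hf
  have hra : a * (i + j) = f * i := by
    apply IsFractionRing.injective A (FractionRing A)
    rw [map_mul, map_mul, ha, ← hv]
    calc φ f * (φ i * ↑v⁻¹) * ↑v = φ f * φ i * (↑v⁻¹ * ↑v) := by ring
      _ = φ f * φ i := by rw [Units.inv_mul, mul_one]
  have hmul : ∀ {x y : A}, x ∈ I → y ∈ J → x * y = 0 := fun {x y} hx hy => by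
    have : x * y ∈ I ⊓ J := ⟨I.mul_mem_right y hx, J.mul_mem_left x hy⟩
    rwa [hIJ, Ideal.mem_bot] at this
  have haI : a ∈ I.radical := mem_radical_of_killed hJ hm fun y hy => by
    refine (mem_nonZeroDivisors_iff_right.1 hr0) _ ?_
    linear_combination y * hra + f * hmul hi hy
  have haJ : f - a ∈ J.radical := mem_radical_of_killed hI (fun q hq h1 h2 => hm q hq h2 h1)
    fun x hx => by
    refine (mem_nonZeroDivisors_iff_right.1 hr0) _ ?_
    linear_combination -x * hra + f * hmul hx hj
  simpa using Submodule.add_mem_sup haI haJ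

/-- The same, with the regular element replaced by a regular element of the maximal ideal. -/
theorem maximalIdeal_le_radical_sup' (hδ : Curv2.deltaInv A = 1) {I J : Ideal A}
    (hIJ : I ⊓ J = ⊥) (hI : I ≠ ⊥) (hJ : J ≠ ⊥)
    (hm : ∀ q : Ideal A, q.IsPrime → I ≤ q → J ≤ q → q = maximalIdeal A)
    {r : A} (hr : r ∈ maximalIdeal A) (hr0 : r ∈ nonZeroDivisors A) :
    maximalIdeal A ≤ I.radical ⊔ J.radical := by
  have h : r ∈ (I ⊔ J).radical := by
    rw [Ideal.radical_eq_sInf, Ideal.mem_sInf]
    rintro q ⟨hIJq, hq⟩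
    exact (hm q hq (le_sup_left.trans hIJq) (le_sup_right.trans hIJq)).symm ▸ hr
  obtain ⟨n, hn⟩ := h
  exact maximalIdeal_le_radical_sup hδ hIJ hI hJ hm hn (pow_mem hr0 n)

end Groth.Agent.H25.SepNode.Local
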