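import Groth.Agent.Lib.ClSub.Sections
import Groth.Agent.Lib.ClSub.Basis
import Groth.Agent.Lib.Modules.AffineHom
import Mathlib.CategoryTheory.Abelian.Basic

/-!
The ideal module of `I ⊔ J` is the sum of those of `I` and `J` when `I ⊓ J = ⊥`.
-/

set_option autoImplicit false
universe u

open CategoryTheory CategoryTheory.Limits AlgebraicGeometry

namespace Groth.Agent.H25.SepNode.Split

variable {X : Scheme.{u}}

theorem idealModι_toSubscheme_of_le {I K : X.IdealSheafData} (h : I ≤ K) :
    _root_.ClSub.idealModι I ≫ _root_.ClSub.toSubscheme K = 0 := by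
  refine Lib.Modules.AffineHom.hom_ext_affine fun U s => ?_
  rw [Scheme.Modules.Hom.comp_app, Scheme.Modules.Hom.zero_app]
  change (_root_.ClSub.toSubscheme K).app U.1 ((_root_.ClSub.idealModι I).app U.1 s) = 0
  have h' := h U ((Lib.ClSub.Sections.mem_range_idealModι_app_affine_iff I U _).1 ⟨s, rfl⟩)
  exact ((Lib.ClSub.Sections.mem_range_idealModι_app_iff K U.1 _).1
    ((Lib.ClSub.Sections.mem_range_idealModι_app_affine_iff K U _).2 h') :)

/-- The inclusion of ideal modules. -/
noncomputable def incl {I K : X.IdealSheafData} (h : I ≤ K) :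
    _root_.ClSub.idealMod I ⟶ _root_.ClSub.idealMod K :=
  kernel.lift _ (_root_.ClSub.idealModι I) (idealModι_toSubscheme_of_le h)

theorem incl_ι {I K : X.IdealSheafData} (h : I ≤ K) :
    incl h ≫ _root_.ClSub.idealModι K = _root_.ClSub.idealModι I :=
  kernel.lift_ι _ _ _

theorem incl_ι_app {I K : X.IdealSheafData} (h : I ≤ K) (U : X.Opens)
    (s : Γ(_root_.ClSub.idealMod I, U)) :
    (_root_.ClSub.idealModι K).app U ((incl h).app U s) = (_root_.ClSub.idealModι I).app U s := by
  conv_rhs => rw [← incl_ι h, Scheme.Modules.Hom.comp_app]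
  rfl

variable {I₁ I₂ K : X.IdealSheafData} (h₁ : I₁ ≤ K) (h₂ : I₂ ≤ K)

/-- The sum map. -/
noncomputable def sumMap :
    _root_.ClSub.idealMod I₁ ⊞ _root_.ClSub.idealMod I₂ ⟶ _root_.ClSub.idealMod K :=
  biprod.desc (incl h₁) (incl h₂)

theorem sumMap_ι_app (U : X.Opens)
    (s : Γ(_root_.ClSub.idealMod I₁ ⊞ _root_.ClSub.idealMod I₂, U)) :
    (_root_.ClSub.idealModι K).app U ((sumMap h₁ h₂).app U s) =
      (_root_.ClSub.idealModι I₁).app U
        ((biprod.fst (X := _root_.ClSub.idealMod I₁) (Y := _root_.ClSub.idealMod I₂)).app U s) +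
      (_root_.ClSub.idealModι I₂).app U
        ((biprod.snd (X := _root_.ClSub.idealMod I₁) (Y := _root_.ClSub.idealMod I₂)).app U s) := by
  have e : sumMap h₁ h₂ ≫ _root_.ClSub.idealModι K =
      biprod.fst ≫ _root_.ClSub.idealModι I₁ + biprod.snd ≫ _root_.ClSub.idealModι I₂ := by
    rw [sumMap, biprod.desc_eq, Preadditive.add_comp, Category.assoc, Category.assoc, incl_ι, incl_ι]
  have e' := congrArg (fun f => Scheme.Modules.Hom.app f U) e
  simp only [Scheme.Modules.Hom.comp_app, Scheme.Modules.Hom.add_app] at e'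
  exact congr($e' s)

theorem isIso_sumMap (hinf : I₁ ⊓ I₂ = ⊥) (hsup : K ≤ I₁ ⊔ I₂) : IsIso (sumMap h₁ h₂) := by
  refine Lib.ClSub.Basis.isIso_of_bijective_affine _ fun U => ⟨?_, ?_⟩
  · refine (injective_iff_map_eq_zero _).2 fun s hs => ?_
    have h0 := sumMap_ι_app h₁ h₂ U.1 s
    rw [hs, map_zero] at h0
    set a := (biprod.fst (X := _root_.ClSub.idealMod I₁) (Y := _root_.ClSub.idealMod I₂)).app U.1 s
      with ha
    set b := (biprod.snd (X := _root_.ClSub.idealMod I₁) (Y := _root_.ClSub.idealMod I₂)).app U.1 s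
      with hb
    have ha1 := (Lib.ClSub.Sections.mem_range_idealModι_app_affine_iff I₁ U _).1 ⟨a, rfl⟩
    have hb1 := (Lib.ClSub.Sections.mem_range_idealModι_app_affine_iff I₂ U _).1 ⟨b, rfl⟩
    have hab := eq_neg_of_add_eq_zero_left h0.symm
    have ha2 : (_root_.ClSub.idealModι I₁).app U.1 a ∈ I₂.ideal U := by
      rw [hab]; exact neg_mem hb1
    have ha0 : (_root_.ClSub.idealModι I₁).app U.1 a = 0 := by
      have he : (I₁ ⊓ I₂).ideal U = I₁.ideal U ⊓ I₂.ideal U := by
        rw [Scheme.IdealSheafData.ideal_inf]; rfl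
      rw [hinf, Scheme.IdealSheafData.ideal_bot, Pi.bot_apply] at he
      have hz : ∀ z : Γ(X, U.1), z ∈ I₁.ideal U → z ∈ I₂.ideal U → z = 0 := fun z hz1 hz2 =>
        Ideal.mem_bot.1 (he.ge ⟨hz1, hz2⟩)
      exact hz _ ha1 ha2
    have hb0 : (_root_.ClSub.idealModι I₂).app U.1 b = 0 := by
      rw [ha0] at hab
      exact neg_eq_zero.1 hab.symm
    have ha00 : a = 0 := Lib.ClSub.Sections.idealModι_app_injective I₁ U.1 (ha0.trans (map_zero _).symm)
    have hb00 : b = 0 := Lib.ClSub.Sections.idealModι_app_injective I₂ U.1 (hb0.trans (map_zero _).symm)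
    have htot := congr(($(biprod.total (X := _root_.ClSub.idealMod I₁)
      (Y := _root_.ClSub.idealMod I₂))).app U.1)
    simp only [Scheme.Modules.Hom.comp_app, Scheme.Modules.Hom.add_app, Scheme.Modules.Hom.id_app] at htot
    have := congr($htot s)
    simp only [AddCommGrpCat.hom_add, AddMonoidHom.add_apply, AddCommGrpCat.hom_comp,
      AddMonoidHom.comp_apply, AddCommGrpCat.hom_id, AddMonoidHom.id_apply] at this
    erw [← ha, ← hb, ha00, hb00, map_zero, map_zero, add_zero] at this
    exact this.symm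
  · intro t
    have ht := hsup U ((Lib.ClSub.Sections.mem_range_idealModι_app_affine_iff K U _).1 ⟨t, rfl⟩)
    rw [Scheme.IdealSheafData.ideal_sup, Pi.sup_apply] at ht
    obtain ⟨x, hx, y, hy, hxy⟩ := Submodule.mem_sup.1 ht
    obtain ⟨a, ha⟩ := (Lib.ClSub.Sections.mem_range_idealModι_app_affine_iff I₁ U x).2 hx
    obtain ⟨b, hb⟩ := (Lib.ClSub.Sections.mem_range_idealModι_app_affine_iff I₂ U y).2 hy
    refine ⟨(biprod.inl (X := _root_.ClSub.idealMod I₁) (Y := _root_.ClSub.idealMod I₂)).app U.1 a +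
      (biprod.inr (X := _root_.ClSub.idealMod I₁) (Y := _root_.ClSub.idealMod I₂)).app U.1 b,
      Lib.ClSub.Sections.idealModι_app_injective K U.1 ?_⟩
    have el : biprod.inl ≫ sumMap h₁ h₂ = incl h₁ := biprod.inl_desc _ _
    have er : biprod.inr ≫ sumMap h₁ h₂ = incl h₂ := biprod.inr_desc _ _
    have el' := congr(Scheme.Modules.Hom.app $el U.1)
    have er' := congr(Scheme.Modules.Hom.app $er U.1)
    simp only [Scheme.Modules.Hom.comp_app] at el' er'
    have el'' := congr($el' a)
    have er'' := congr($er' b)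
    simp only [AddCommGrpCat.hom_comp, AddMonoidHom.comp_apply] at el'' er''
    erw [map_add, map_add, el'', er'', incl_ι_app, incl_ι_app, ha, hb, hxy]

end Groth.Agent.H25.SepNode.Split
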