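import Groth.Agent.H25.SepNode.Ideals
import Groth.Agent.H25.SepNode.Split
import Groth.Agent.H25.Node.Properties
import Groth.Agent.H25.Node.Scheme
import Groth.Agent.H25.Node.Algebraic
import Groth.Agent.H25.NagataStalk

/-!
The ideal module of a separating node is decomposable.
-/

set_option autoImplicit false
set_option linter.style.haveILetI false
universe u

open CategoryTheory CategoryTheory.Limits AlgebraicGeometry TopologicalSpace

namespace Groth.Agent.H25.SepNode.Main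

/-- A node over an algebraically closed field has `δ = 1` and a regular element in its maximal
ideal. -/
theorem node_local (k : Type u) [Field k] [IsAlgClosed k] (X : Scheme.{u})
    [X.Over (Spec (CommRingCat.of k))] [LocallyOfFiniteType (X ↘ Spec (CommRingCat.of k))] (P : X)
    (h : Curv2.IsNode k X P) :
    Curv2.deltaInv (X.presheaf.stalk P) = 1 ∧
      ∃ r ∈ IsLocalRing.maximalIdeal (X.presheaf.stalk P), r ∈ nonZeroDivisors (X.presheaf.stalk P) := by
  letI := Curv2.stalkAlgebra k X P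
  haveI : IsLocallyNoetherian X :=
    LocallyOfFiniteType.isLocallyNoetherian (X ↘ Spec (CommRingCat.of k))
  obtain ⟨-, hsep, hN⟩ := (Groth.Agent.H25.Node.Sch.isNode_iff k X P).1 h
  haveI := hsep
  haveI : Algebra.FormallyEtale k (IsLocalRing.ResidueField (X.presheaf.stalk P)) :=
    Algebra.FormallyEtale.of_isSeparable _ _
  obtain ⟨hred, hdim, hδ, -⟩ := Node.Properties.properties k (X.presheaf.stalk P)
    (NagataStalk.isNagata_stalk (X ↘ Spec (CommRingCat.of k)) P) hN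
  haveI := hred
  refine ⟨hδ, Node.Algebraic.exists_nzd fun h0 => ?_⟩
  haveI : Ring.KrullDimLE 0 (X.presheaf.stalk P) := by
    refine Ring.KrullDimLE.mk₀ fun q hq => ?_
    have hle := IsLocalRing.le_maximalIdeal hq.ne_top
    rw [h0, le_bot_iff] at hle
    rw [hle, ← h0]
    exact IsLocalRing.maximalIdeal.isMaximal _
  have hle : ringKrullDim (X.presheaf.stalk P) ≤ 0 := (Order.krullDimLE_iff _ _).1 ‹Ring.KrullDimLE 0 _›
  rw [hdim] at hle
  exact absurd hle (by decide)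

variable {X : Scheme.{u}} [IsReduced X]

omit [IsReduced X] in
theorem mem_vanishingIdeal_iff (Z : Closeds X) (U : X.affineOpens) (q : PrimeSpectrum Γ(X, U.1)) :
    (Scheme.IdealSheafData.vanishingIdeal Z).ideal U ≤ q.asIdeal ↔ U.2.fromSpec q ∈ Z := by
  have hqU : U.2.fromSpec q ∈ (U.1 : Set X) := U.2.range_fromSpec ▸ ⟨q, rfl⟩
  have h1 : U.2.fromSpec q ∈ (Scheme.IdealSheafData.vanishingIdeal Z).support ↔
      U.2.fromSpec q ∈ X.zeroLocus (U := U.1)
        ((Scheme.IdealSheafData.vanishingIdeal Z).ideal U : Set Γ(X, U.1)) :=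
    Scheme.IdealSheafData.mem_support_iff_of_mem hqU
  have h2 : U.2.fromSpec q ∈ Z ↔ U.2.fromSpec q ∈ (Scheme.IdealSheafData.vanishingIdeal Z).support :=
    (Set.ext_iff.1 (Scheme.IdealSheafData.coe_support_vanishingIdeal Z) _).symm
  rw [h2, h1]
  exact (Set.ext_iff.1 (U.2.fromSpec_preimage_zeroLocus
    ((Scheme.IdealSheafData.vanishingIdeal Z).ideal U : Set Γ(X, U.1))) q).symm

theorem exists_not_killed (Z : Closeds X) (P : X) (hP : P ∈ closure ((Z : Set X)ᶜ))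
    (U : X.affineOpens) (hPU : P ∈ U.1) :
    ∀ s ∉ (U.2.primeIdealOf ⟨P, hPU⟩).asIdeal,
      ∃ f ∈ (Scheme.IdealSheafData.vanishingIdeal Z).ideal U, s * f ≠ 0 := by
  intro s hs
  by_contra! hall
  have hsub : U.2.fromSpec '' (PrimeSpectrum.basicOpen s : Set (PrimeSpectrum Γ(X, U.1))) ⊆ Z := by
    rintro _ ⟨q, hq, rfl⟩
    refine (mem_vanishingIdeal_iff Z U q).1 fun f hf => ?_
    exact (q.2.mem_or_mem (show s * f ∈ q.asIdeal from (hall f hf).symm ▸ q.asIdeal.zero_mem)).resolve_left hq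
  have hopen : IsOpen (U.2.fromSpec '' (PrimeSpectrum.basicOpen s : Set (PrimeSpectrum Γ(X, U.1)))) :=
    U.2.fromSpec.isOpenEmbedding.isOpenMap _ (PrimeSpectrum.basicOpen s).isOpen
  obtain ⟨z, hz, hz'⟩ := mem_closure_iff.1 hP _ hopen
    ⟨U.2.primeIdealOf ⟨P, hPU⟩, hs, U.2.fromSpec_primeIdealOf ⟨P, hPU⟩⟩
  exact hz' (hsub hz)

variable [IsLocallyNoetherian X] {Y₁ Y₂ : Closeds X} {P : X} (hP : IsClosed ({P} : Set X))

theorem vanishingIdeal_le_sup (hcup : Y₁ ⊔ Y₂ = ⊤) (hcap : (Y₁ : Set X) ∩ Y₂ = {P})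
    (h1 : P ∈ closure ((Y₁ : Set X)ᶜ)) (h2 : P ∈ closure ((Y₂ : Set X)ᶜ))
    (hδ : Curv2.deltaInv (X.presheaf.stalk P) = 1)
    (hnzd : ∃ r ∈ IsLocalRing.maximalIdeal (X.presheaf.stalk P),
      r ∈ nonZeroDivisors (X.presheaf.stalk P)) :
    Scheme.IdealSheafData.vanishingIdeal ⟨{P}, hP⟩ ≤
      Scheme.IdealSheafData.vanishingIdeal Y₁ ⊔ Scheme.IdealSheafData.vanishingIdeal Y₂ := by
  intro U
  rw [Scheme.IdealSheafData.ideal_sup, Pi.sup_apply]
  set I := (Scheme.IdealSheafData.vanishingIdeal Y₁).ideal U with hI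
  set J := (Scheme.IdealSheafData.vanishingIdeal Y₂).ideal U with hJ
  have hm : ∀ q : PrimeSpectrum Γ(X, U.1), I ≤ q.asIdeal → J ≤ q.asIdeal → U.2.fromSpec q = P :=
    fun q hq1 hq2 => hcap.le ⟨(mem_vanishingIdeal_iff Y₁ U q).1 hq1, (mem_vanishingIdeal_iff Y₂ U q).1 hq2⟩
  by_cases hPU : P ∈ U.1
  · let p := U.2.primeIdealOf ⟨P, hPU⟩
    have hp : U.2.fromSpec p = P := U.2.fromSpec_primeIdealOf ⟨P, hPU⟩
    haveI : p.asIdeal.IsMaximal := by
      rw [← PrimeSpectrum.isClosed_singleton_iff_isMaximal]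
      have : ({p} : Set (PrimeSpectrum Γ(X, U.1))) = U.2.fromSpec ⁻¹' {P} := by
        ext q
        exact ⟨fun h => (congrArg U.2.fromSpec (Set.mem_singleton_iff.1 h)).trans hp,
          fun h => U.2.fromSpec.isOpenEmbedding.injective (h.trans hp.symm)⟩
      rw [this]
      exact hP.preimage U.2.fromSpec.continuous
    letI : Algebra Γ(X, U.1) (X.presheaf.stalk P) :=
      TopCat.Presheaf.algebra_section_stalk X.presheaf (⟨P, hPU⟩ : U.1)
    haveI : IsLocalization.AtPrime (X.presheaf.stalk P) p.asIdeal := U.2.isLocalization_stalk ⟨P, hPU⟩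
    haveI : IsNoetherianRing Γ(X, U.1) := IsLocallyNoetherian.component_noetherian U
    have hle : (Scheme.IdealSheafData.vanishingIdeal (⟨{P}, hP⟩ : Closeds X)).ideal U ≤ p.asIdeal :=
      (mem_vanishingIdeal_iff _ U p).2 hp
    refine hle.trans (Ideals.le_sup_of_node p.asIdeal hδ hnzd ?_ ?_ ?_ ?_
      (exists_not_killed Y₁ P h1 U hPU) (exists_not_killed Y₂ P h2 U hPU))
    · rw [hI, Scheme.IdealSheafData.vanishingIdeal_ideal]; exact PrimeSpectrum.isRadical_vanishingIdeal _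
    · rw [hJ, Scheme.IdealSheafData.vanishingIdeal_ideal]; exact PrimeSpectrum.isRadical_vanishingIdeal _
    · have : Scheme.IdealSheafData.vanishingIdeal (Y₁ ⊔ Y₂) = ⊥ := by
        rw [hcup, Scheme.IdealSheafData.vanishingIdeal_top, Scheme.nilradical_eq_bot]
      rw [Scheme.IdealSheafData.vanishingIdeal_sup] at this
      have hU := congrFun (congrArg Scheme.IdealSheafData.ideal this) U
      rwa [Scheme.IdealSheafData.ideal_inf, Scheme.IdealSheafData.ideal_bot] at hU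
    · intro q hq hq1 hq2
      have := (hm ⟨q, hq⟩ hq1 hq2).trans hp.symm
      exact congrArg PrimeSpectrum.asIdeal (U.2.fromSpec.isOpenEmbedding.injective this)
  · suffices I ⊔ J = ⊤ by rw [this]; exact le_top
    by_contra hne
    obtain ⟨q, hq, hle⟩ := Ideal.exists_le_maximal _ hne
    have hmem : P ∈ (U.1 : Set X) := by
      rw [← U.2.range_fromSpec]
      exact ⟨_, hm ⟨q, hq.isPrime⟩ (le_sup_left.trans hle) (le_sup_right.trans hle)⟩
    exact hPU hmem

omit [IsLocallyNoetherian X] in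
theorem idealMod_id_ne_zero (Z : Closeds X) (P : X) (hPZ : P ∈ closure ((Z : Set X)ᶜ)) :
    𝟙 (_root_.ClSub.idealMod (Scheme.IdealSheafData.vanishingIdeal Z)) ≠ 0 := by
  intro h
  obtain ⟨U, hU, hPU, -⟩ := exists_isAffineOpen_mem_and_subset (show P ∈ (⊤ : X.Opens) from trivial)
  have h1 : (1 : Γ(X, U)) ∉ (hU.primeIdealOf ⟨P, hPU⟩).asIdeal := fun h1 =>
    (hU.primeIdealOf ⟨P, hPU⟩).2.ne_top ((Ideal.eq_top_iff_one _).2 h1)
  obtain ⟨f, hf, hne⟩ := exists_not_killed Z P hPZ ⟨U, hU⟩ hPU 1 h1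
  obtain ⟨m, hm⟩ := (Lib.ClSub.Sections.mem_range_idealModι_app_affine_iff _ ⟨U, hU⟩ f).2 hf
  have hm0 := congr(($h).app U m)
  rw [Scheme.Modules.Hom.id_app, Scheme.Modules.Hom.zero_app] at hm0
  refine hne ?_
  rw [one_mul, ← hm, show m = 0 from hm0]
  exact map_zero _

/-- **Separating nodes**: the ideal module of a separating node has a nontrivial idempotent. -/
theorem main (k : Type u) [Field k] [IsAlgClosed k] (X : Scheme.{u})
    [X.Over (Spec (CommRingCat.of k))] [LocallyOfFiniteType (X ↘ Spec (CommRingCat.of k))]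
    [IsReduced X] [ConnectedSpace X] (P : X) (hP : IsClosed ({P} : Set X))
    (hnode : Curv2.IsNode k X P) (hsep : ¬ IsPreconnected (({P} : Set X)ᶜ)) :
    ∃ e : ClSub.idealMod (Scheme.IdealSheafData.vanishingIdeal ⟨{P}, hP⟩) ⟶
        ClSub.idealMod (Scheme.IdealSheafData.vanishingIdeal ⟨{P}, hP⟩),
      e ≫ e = e ∧ e ≠ 0 ∧ e ≠ 𝟙 _ := by
  haveI : IsLocallyNoetherian X :=
    LocallyOfFiniteType.isLocallyNoetherian (X ↘ Spec (CommRingCat.of k))
  simp only [_root_.IsPreconnected, not_forall, Set.not_nonempty_iff_eq_empty] at hsep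
  obtain ⟨u, v, hu, hv, huv, hun, hvn, hempty⟩ := hsep
  let U₁ := u ∩ ({P} : Set X)ᶜ
  let U₂ := v ∩ ({P} : Set X)ᶜ
  have hU1 : IsOpen U₁ := hu.inter hP.isOpen_compl
  have hU2 : IsOpen U₂ := hv.inter hP.isOpen_compl
  have hdisj : ∀ x, x ∈ U₁ → x ∈ U₂ → False := fun x h1 h2 =>
    (hempty.le : _ ⊆ (∅ : Set X)) ⟨h1.2, h1.1, h2.1⟩
  have htot : ∀ x, x = P ∨ x ∈ U₁ ∨ x ∈ U₂ := fun x => by
    by_cases hx : x = P
    · exact Or.inl hx
    · exact Or.inr ((huv hx).imp (fun h => ⟨h, hx⟩) (fun h => ⟨h, hx⟩))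
  have hclo : ∀ {U V : Set X}, IsOpen U → IsOpen V → (∀ x, x ∈ U → x ∈ V → False) →
      (∀ x, x = P ∨ x ∈ U ∨ x ∈ V) → U.Nonempty → P ∉ U → P ∈ closure U := by
    intro U V hU hV hd ht hne hPU
    by_contra hPc
    have hc : IsClosed U := by
      refine closure_subset_iff_isClosed.1 fun x hx => ?_
      rcases ht x with rfl | h | h
      · exact absurd hx hPc
      · exact h
      · obtain ⟨y, hy1, hy2⟩ := mem_closure_iff.1 hx V hV h
        exact (hd y hy2 hy1).elim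
    rcases isClopen_iff.1 ⟨hc, hU⟩ with h | h
    · exact hne.ne_empty h
    · exact hPU (h ▸ trivial)
  have hP1 : P ∈ closure U₁ := hclo hU1 hU2 hdisj htot
    (by obtain ⟨x, hx1, hx2⟩ := hun; exact ⟨x, hx2, hx1⟩) (fun h => h.2 rfl)
  have hP2 : P ∈ closure U₂ := hclo hU2 hU1 (fun x h1 h2 => hdisj x h2 h1)
    (fun x => (htot x).imp id Or.symm)
    (by obtain ⟨x, hx1, hx2⟩ := hvn; exact ⟨x, hx2, hx1⟩) (fun h => h.2 rfl)
  let Y₁ : Closeds X := ⟨U₂ᶜ, hU2.isClosed_compl⟩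
  let Y₂ : Closeds X := ⟨U₁ᶜ, hU1.isClosed_compl⟩
  have hcup : Y₁ ⊔ Y₂ = ⊤ := by
    ext x
    simp only [Closeds.coe_sup, Closeds.coe_top, Set.mem_union, Set.mem_univ, iff_true]
    by_contra! h
    exact hdisj x (not_not.1 h.2) (not_not.1 h.1)
  have hcap : (Y₁ : Set X) ∩ Y₂ = {P} := by
    ext x
    refine ⟨fun ⟨h1, h2⟩ => ((htot x).resolve_right (not_or.2 ⟨h2, h1⟩)), ?_⟩
    rintro rfl
    exact ⟨fun h => h.2 rfl, fun h => h.2 rfl⟩
  have hc1 : P ∈ closure ((Y₁ : Set X)ᶜ) := by simpa [Y₁] using hP2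
  have hc2 : P ∈ closure ((Y₂ : Set X)ᶜ) := by simpa [Y₂] using hP1
  obtain ⟨hδ, hnzd⟩ := node_local k X P hnode
  let K := Scheme.IdealSheafData.vanishingIdeal (⟨{P}, hP⟩ : Closeds X)
  have hle1 : Scheme.IdealSheafData.vanishingIdeal Y₁ ≤ K :=
    Scheme.IdealSheafData.vanishingIdeal_antimono fun x hx => (hcap.ge hx).1
  have hle2 : Scheme.IdealSheafData.vanishingIdeal Y₂ ≤ K :=
    Scheme.IdealSheafData.vanishingIdeal_antimono fun x hx => (hcap.ge hx).2
  have hinf : Scheme.IdealSheafData.vanishingIdeal Y₁ ⊓ Scheme.IdealSheafData.vanishingIdeal Y₂ = ⊥ := by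
    rw [← Scheme.IdealSheafData.vanishingIdeal_sup, hcup, Scheme.IdealSheafData.vanishingIdeal_top,
      Scheme.nilradical_eq_bot]
  haveI := Split.isIso_sumMap hle1 hle2 hinf (vanishingIdeal_le_sup hP hcup hcap hc1 hc2 hδ hnzd)
  let φ := asIso (Split.sumMap hle1 hle2)
  refine ⟨φ.inv ≫ (biprod.fst ≫ biprod.inl) ≫ φ.hom, ?_, fun h => ?_, fun h => ?_⟩
  · simp only [Category.assoc, Iso.hom_inv_id_assoc, biprod.inl_fst_assoc]
  · apply idealMod_id_ne_zero Y₁ P hc1
    have h' := congrArg (fun f => biprod.inl ≫ φ.hom ≫ f ≫ φ.inv ≫ biprod.fst) h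
    simpa using h'
  · apply idealMod_id_ne_zero Y₂ P hc2
    have h' := congrArg (fun f => biprod.inr ≫ φ.hom ≫ f ≫ φ.inv ≫ biprod.snd) h
    simp only [Category.assoc, Iso.hom_inv_id_assoc, biprod.inl_snd,
      comp_zero] at h'
    erw [Category.id_comp, Iso.hom_inv_id_assoc, biprod.inr_snd] at h'
    exact h'.symm

end Groth.Agent.H25.SepNode.Main
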